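import Mathlib

/-!
# S4793, PARTI: representation theoretic lemmas

* `exists_fixed`, `sum_ne_zero` : sums of characters over subgroups and fixed vectors;
* `exists_eigen` : simultaneous eigenvectors of a finite commutative group on an invariant subspace;
* `exists_sum` : the sum over a group `T` of an eigenvector of a normalized abelian subgroup `Z` is nonzero when the
  stabilizer in `T` of the eigencharacter fixes the vector.
-/

set_option autoImplicit false

namespace Cfsg.Agent.H466.CCRep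

open Module

universe u v

section Fixed

variable {G : Type u} [Group G] [Finite G] {X : Type v} [AddCommGroup X] [Module ℂ X] [FiniteDimensional ℂ X]
  (ρ : Representation ℂ G X)

theorem sum_eq (H : Subgroup G) : ∑ᶠ g : H, ρ.character (g : G) =
    (Nat.card H : ℂ) * (finrank ℂ (Representation.invariants (ρ.comp H.subtype)) : ℂ) := by
  have := Fintype.ofFinite H
  have hne : (Nat.card H : ℂ) ≠ 0 := by exact_mod_cast (Nat.card_pos (α := H)).ne'
  have : Invertible (Nat.card H : ℂ) := invertibleOfNonzero hne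
  have h1 := Representation.card_inv_mul_sum_char_eq_finrank (ρ := (ρ.comp H.subtype : Representation ℂ H X))
  rw [finsum_eq_sum_of_fintype, ← h1, ← mul_assoc, mul_inv_cancel₀ hne, one_mul]
  rfl

theorem exists_fixed (H : Subgroup G) (h : ∑ᶠ g : H, ρ.character (g : G) ≠ 0) :
    ∃ v : X, v ≠ 0 ∧ ∀ g ∈ H, ρ g v = v := by
  rw [sum_eq] at h
  have h1 : finrank ℂ (Representation.invariants (ρ.comp H.subtype)) ≠ 0 := fun h0 => h (by rw [h0]; simp)
  have h2 : Nontrivial (Representation.invariants (ρ.comp H.subtype)) := by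
    by_contra h2
    rw [not_nontrivial_iff_subsingleton] at h2
    exact h1 (Module.finrank_zero_of_subsingleton)
  obtain ⟨v, hv⟩ := exists_ne (0 : Representation.invariants (ρ.comp H.subtype))
  refine ⟨v, fun h0 => hv (Subtype.ext h0), fun g hg => v.2 ⟨g, hg⟩⟩

theorem sum_ne_zero (H : Subgroup G) {v : X} (hv : v ≠ 0) (hf : ∀ g ∈ H, ρ g v = v) :
    ∑ᶠ g : H, ρ.character (g : G) ≠ 0 := by
  rw [sum_eq]
  have hne : (Nat.card H : ℂ) ≠ 0 := by exact_mod_cast (Nat.card_pos (α := H)).ne'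
  refine mul_ne_zero hne ?_
  have h1 : v ∈ Representation.invariants (ρ.comp H.subtype) := fun g => hf g g.2
  have h2 : Nontrivial (Representation.invariants (ρ.comp H.subtype)) :=
    ⟨⟨⟨v, h1⟩, 0, fun h0 => hv (congrArg Subtype.val h0)⟩⟩
  exact_mod_cast (Module.finrank_pos (R := ℂ) (M := Representation.invariants (ρ.comp H.subtype))).ne'

end Fixed

section Eigen

variable {A : Type u} [CommGroup A] [Finite A] {X : Type v} [AddCommGroup X] [Module ℂ X]

instance finite_dual : Finite (A →* ℂˣ) := by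
  have : NeZero ((Monoid.exponent A : ℕ) : ℂ) := ⟨by exact_mod_cast Monoid.exponent_ne_zero_of_finite⟩
  obtain ⟨e⟩ := CommGroup.monoidHom_mulEquiv_of_hasEnoughRootsOfUnity A ℂ
  exact Finite.of_equiv A e.symm.toEquiv

theorem exists_ne {a : A} (ha : a ≠ 1) : ∃ l : A →* ℂˣ, l a ≠ 1 := by
  have : NeZero ((Monoid.exponent A : ℕ) : ℂ) := ⟨by exact_mod_cast Monoid.exponent_ne_zero_of_finite⟩
  exact CommGroup.exists_apply_ne_one_of_hasEnoughRootsOfUnity A ℂ ha

theorem sum_dual [Fintype (A →* ℂˣ)] {a : A} (ha : a ≠ 1) : ∑ l : A →* ℂˣ, (((l a)⁻¹ : ℂˣ) : ℂ) = 0 := by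
  obtain ⟨l₀, hl₀⟩ := exists_ne ha
  have h1 : ∑ l : A →* ℂˣ, (((l a)⁻¹ : ℂˣ) : ℂ) = (((l₀ a)⁻¹ : ℂˣ) : ℂ) * ∑ l : A →* ℂˣ, (((l a)⁻¹ : ℂˣ) : ℂ) := by
    rw [Finset.mul_sum]
    symm
    refine Fintype.sum_equiv (Equiv.mulLeft l₀) _ _ fun l => ?_
    simp only [Equiv.coe_mulLeft, MonoidHom.mul_apply, mul_inv, Units.val_mul]
  by_contra h0
  have h2 : (((l₀ a)⁻¹ : ℂˣ) : ℂ) = 1 := by
    have h3 := mul_right_cancel₀ h0 ((one_mul _).trans h1)
    exact h3.symm
  have h3 : (l₀ a)⁻¹ = 1 := Units.ext h2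
  exact hl₀ (inv_eq_one.mp h3)

/-- Simultaneous eigenvectors of a finite commutative group. -/
theorem exists_eigen (ρ : A →* Module.End ℂ X) (Y : Submodule ℂ X) (hY : ∀ a, ∀ y ∈ Y, ρ a y ∈ Y) (a₀ : A)
    (y₀ : X) (hy₀ : y₀ ∈ Y) (h : ρ a₀ y₀ ≠ y₀) :
    ∃ l : A →* ℂˣ, l ≠ 1 ∧ ∃ y ∈ Y, y ≠ 0 ∧ ∀ a, ρ a y = ((l a : ℂˣ) : ℂ) • y := by
  have := Fintype.ofFinite A
  have := Fintype.ofFinite (A →* ℂˣ)
  have hP : ∀ (l : A →* ℂˣ) (y : X) (b : A), ρ b (∑ a : A, (((l a)⁻¹ : ℂˣ) : ℂ) • ρ a y) =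
      ((l b : ℂˣ) : ℂ) • ∑ a : A, (((l a)⁻¹ : ℂˣ) : ℂ) • ρ a y := by
    intro l y b
    rw [map_sum, Finset.smul_sum]
    refine Fintype.sum_equiv (Equiv.mulLeft b) _ _ fun a => ?_
    simp only [Equiv.coe_mulLeft, map_smul, smul_smul, map_mul, Module.End.mul_apply]
    congr 1
    rw [mul_inv, Units.val_mul, ← mul_assoc, ← Units.val_mul, mul_inv_cancel, Units.val_one, one_mul]
  by_cases hc : ∃ l : A →* ℂˣ, l ≠ 1 ∧ ∃ y ∈ Y, ∑ a : A, (((l a)⁻¹ : ℂˣ) : ℂ) • ρ a y ≠ 0
  · obtain ⟨l, hl, y, hy, hy0⟩ := hc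
    exact ⟨l, hl, _, Y.sum_mem fun a _ => Y.smul_mem _ (hY a y hy), hy0, hP l y⟩
  · exfalso
    push Not at hc
    have h1 : ∑ l : A →* ℂˣ, ∑ a : A, (((l a)⁻¹ : ℂˣ) : ℂ) • ρ a y₀ = ∑ a : A, ρ a y₀ := by
      rw [Finset.sum_eq_single (1 : A →* ℂˣ)]
      · simp
      · intro l _ hl
        exact hc l hl y₀ hy₀
      · intro h0
        exact absurd (Finset.mem_univ _) h0
    have h2 : ∑ l : A →* ℂˣ, ∑ a : A, (((l a)⁻¹ : ℂˣ) : ℂ) • ρ a y₀ = (Fintype.card (A →* ℂˣ) : ℂ) • y₀ := by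
      rw [Finset.sum_comm, Finset.sum_eq_single (1 : A)]
      · simp only [map_one, inv_one, Units.val_one, one_smul, Module.End.one_apply, Finset.sum_const,
          Finset.card_univ]
        rw [Nat.cast_smul_eq_nsmul]
      · intro a _ ha
        rw [← Finset.sum_smul, sum_dual ha, zero_smul]
      · intro h0
        exact absurd (Finset.mem_univ _) h0
    have h3 : (Fintype.card (A →* ℂˣ) : ℂ) • ρ a₀ y₀ = (Fintype.card (A →* ℂˣ) : ℂ) • y₀ := by
      rw [← map_smul, ← h2, h1, map_sum]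
      refine Fintype.sum_equiv (Equiv.mulLeft a₀) _ _ fun a => ?_
      simp only [Equiv.coe_mulLeft, map_mul, Module.End.mul_apply]
    have h4 : (Fintype.card (A →* ℂˣ) : ℂ) ≠ 0 := by exact_mod_cast Fintype.card_ne_zero
    exact h ((smul_right_injective X h4) h3)

end Eigen

section Sum

variable {G : Type u} [Group G] [Finite G] {X : Type v} [AddCommGroup X] [Module ℂ X]
  (ρ : Representation ℂ G X)

theorem exists_sum (Z T R : Subgroup G) (hTZ : ∀ t ∈ T, ∀ z ∈ Z, t⁻¹ * z * t ∈ Z)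
    (hTR : ∀ t ∈ T, ∀ r ∈ R, t⁻¹ * r * t ∈ R) (l : Z →* ℂˣ) {y : X} (hy : y ≠ 0)
    (hyR : ∀ r ∈ R, ρ r y = y) (hyl : ∀ z : Z, ρ (z : G) y = ((l z : ℂˣ) : ℂ) • y)
    (hst : ∀ t (ht : t ∈ T), (∀ z : Z, l ⟨t⁻¹ * z * t, hTZ t ht z z.2⟩ = l z) → ρ t y = y) :
    ∃ w : X, w ≠ 0 ∧ (∀ t ∈ T, ρ t w = w) ∧ ∀ r ∈ R, ρ r w = w := by
  classical
  have := Fintype.ofFinite Z
  have := Fintype.ofFinite T
  refine ⟨∑ t : T, ρ (t : G) y, ?_, ?_, ?_⟩
  · intro h0
    -- the projection to the eigencomponent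
    have h1 : ∑ z : Z, (((l z)⁻¹ : ℂˣ) : ℂ) • ρ (z : G) (∑ t : T, ρ (t : G) y) = 0 := by
      rw [h0]
      simp
    let lt : T → Z →* ℂˣ := fun t =>
      { toFun := fun z => l ⟨(t : G)⁻¹ * z * t, hTZ t t.2 z z.2⟩
        map_one' := by
          rw [← map_one l]
          congr 1
          apply Subtype.ext
          simp
        map_mul' := fun a b => by
          rw [← map_mul l]
          congr 1
          apply Subtype.ext
          show (t : G)⁻¹ * ((a : G) * b) * t = (t : G)⁻¹ * a * t * ((t : G)⁻¹ * b * t)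
          group }
    have hlt : ∀ (t : T) (z : Z), lt t z = l ⟨(t : G)⁻¹ * z * t, hTZ t t.2 z z.2⟩ := fun _ _ => rfl
    have h2 : ∀ (t : T) (z : Z), ρ (z : G) (ρ (t : G) y) = ((lt t z : ℂˣ) : ℂ) • ρ (t : G) y := by
      intro t z
      have h3 : ρ (z : G) (ρ (t : G) y) = ρ (t : G) (ρ ((t : G)⁻¹ * z * t) y) := by
        rw [← Module.End.mul_apply, ← Module.End.mul_apply, ← map_mul, ← map_mul]
        congr 2
        group
      rw [h3, hlt]
      have h4 := hyl ⟨(t : G)⁻¹ * z * t, hTZ t t.2 z z.2⟩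
      rw [show ρ ((t : G)⁻¹ * z * t) y = _ from h4, map_smul]
    have h3 : ∑ z : Z, (((l z)⁻¹ : ℂˣ) : ℂ) • ρ (z : G) (∑ t : T, ρ (t : G) y) =
        ∑ t : T, (∑ z : Z, (((l z)⁻¹ * lt t z : ℂˣ) : ℂ)) • ρ (t : G) y := by
      rw [show (∑ t : T, (∑ z : Z, (((l z)⁻¹ * lt t z : ℂˣ) : ℂ)) • ρ (t : G) y) =
        ∑ t : T, ∑ z : Z, (((l z)⁻¹ * lt t z : ℂˣ) : ℂ) • ρ (t : G) y from
        Finset.sum_congr rfl fun t _ => Finset.sum_smul, Finset.sum_comm]
      refine Finset.sum_congr rfl fun z _ => ?_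
      rw [map_sum, Finset.smul_sum]
      refine Finset.sum_congr rfl fun t _ => ?_
      rw [h2, smul_smul, Units.val_mul]
    have h4 : ∀ t : T, (∑ z : Z, (((l z)⁻¹ * lt t z : ℂˣ) : ℂ)) • ρ (t : G) y =
        (if lt t = l then (Nat.card Z : ℂ) else 0) • y := by
      intro t
      split_ifs with ht
      · rw [hst t t.2 fun z => by rw [← hlt, ht]]
        congr 1
        rw [Finset.sum_congr rfl fun z _ => by rw [ht, inv_mul_cancel, Units.val_one]]
        simp
      · have h5 : ∑ z : Z, (((l z)⁻¹ * lt t z : ℂˣ) : ℂ) = 0 := by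
          have h6 : ((Units.coeHom ℂ).comp (l⁻¹ * lt t) : Z →* ℂ) ≠ 1 := by
            intro h7
            apply ht
            ext z
            have h8 : (((l z)⁻¹ * lt t z : ℂˣ) : ℂ) = 1 := DFunLike.congr_fun h7 z
            have h9 : (l z)⁻¹ * lt t z = 1 := Units.ext h8
            have h10 : lt t z = l z := (inv_mul_eq_one.mp h9).symm
            rw [h10]
          exact sum_hom_units_eq_zero _ h6
        rw [h5]
        simp
    rw [h1] at h3
    have h5 : (∑ t : T, (if lt t = l then (Nat.card Z : ℂ) else 0)) • y = 0 := by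
      rw [Finset.sum_smul, h3]
      exact Finset.sum_congr rfl fun t _ => (h4 t).symm
    rcases smul_eq_zero.mp h5 with h6 | h6
    · have h7 : (∑ t : T, (if lt t = l then (Nat.card Z : ℝ) else 0)) = 0 := by
        have h8 : ((∑ t : T, (if lt t = l then (Nat.card Z : ℝ) else 0) : ℝ) : ℂ) = 0 := by
          rw [← h6]
          push_cast
          refine Finset.sum_congr rfl fun t _ => ?_
          split_ifs <;> simp
        exact_mod_cast h8
      have h8 : (0 : ℝ) < ∑ t : T, (if lt t = l then (Nat.card Z : ℝ) else 0) := by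
        apply Finset.sum_pos'
        · intro t _
          split_ifs
          · positivity
          · exact le_refl _
        · refine ⟨1, Finset.mem_univ _, ?_⟩
          have h9 : lt 1 = l := by
            ext z
            rw [hlt]
            congr 2
            apply Subtype.ext
            simp
          rw [if_pos h9]
          exact_mod_cast Nat.card_pos
      exact h8.ne' h7
    · exact hy h6
  · intro t ht
    rw [map_sum]
    refine Fintype.sum_equiv (Equiv.mulLeft (⟨t, ht⟩ : T)) _ _ fun a => ?_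
    simp only [Equiv.coe_mulLeft, Subgroup.coe_mul, map_mul, Module.End.mul_apply]
  · intro r hr
    rw [map_sum]
    refine Finset.sum_congr rfl fun t _ => ?_
    have h3 : ρ r (ρ (t : G) y) = ρ (t : G) (ρ ((t : G)⁻¹ * r * t) y) := by
      rw [← Module.End.mul_apply, ← Module.End.mul_apply, ← map_mul, ← map_mul]
      congr 2
      group
    rw [h3, hyR _ (hTR t t.2 r hr)]

end Sum

end Cfsg.Agent.H466.CCRep
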