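import Cfsg.Agent.H603.CC.Defs
import Cfsg.Agent.H466.CCRep
import Cfsg.Agent.Characters.Values

/-!
# S4793, PARTI: characters with reflection-fixed vectors

`part_one_of` : the statement `part_one`, with the results of the other tasks as hypotheses (in the form of
`tools/plans/S4793_tasks.lean`).
-/

set_option autoImplicit false

namespace Cfsg.Agent.H466.CCPart

open Module Cfsg Cfsg.Agent.H603.CC Cfsg.Agent.H466.CCRep

universe u v

variable {F : Type u} {V : Type v} [Field F] [AddCommGroup V] [Module F V] {q : ℕ} {σ : F →+* F}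
  {B : V →ₛₗ[σ] V →ₗ[F] F}

theorem conj_FixS {W W' : Submodule F V} {g z : UU B} (hg : ∀ x ∈ W, ac B g x ∈ W') (hz : z ∈ FixS B W') :
    g⁻¹ * z * g ∈ FixS B W := by
  intro x hx
  rw [ac_mul, ac_mul, hz _ (hg x hx), ac_inv_ac]

theorem map_perp {W W' : Submodule F V} {g : UU B} (hg : ∀ x ∈ W', ac B g⁻¹ x ∈ W) {x : V} (hx : x ∈ perp B W) :
    ac B g x ∈ perp B W' := by
  intro w hw
  have h1 := hx _ (hg w hw)
  rwa [← form_ac g, ac_ac_inv] at h1

theorem mem_perp_span {f x : V} : x ∈ perp B (Submodule.span F {f}) ↔ B f x = 0 := by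
  constructor
  · intro h
    exact h f (Submodule.mem_span_singleton_self f)
  · intro h w hw
    obtain ⟨c, rfl⟩ := Submodule.mem_span_singleton.mp hw
    rw [LinearMap.map_smulₛₗ, LinearMap.smul_apply, h, smul_zero]

theorem conj_Ref {f f' : V} {g r : UU B} (hg : ac B g f = f') (hr : r ∈ Ref B f') : g⁻¹ * r * g ∈ Ref B f := by
  refine conj_FixS (W' := perp B (Submodule.span F {f'})) (fun x hx => ?_) hr
  rw [mem_perp_span] at hx ⊢
  rw [← hg, form_ac, hx]

/-- `Z_E` is commutative. -/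
theorem FixS_comm {E : Submodule F V} (hE : IsTS B E) (hpp : perp B (perp B E) = E) {z w : UU B}
    (hz : z ∈ FixS B (perp B E)) (hw : w ∈ FixS B (perp B E)) : z * w = w * z := by
  have key : ∀ z ∈ FixS B (perp B E), ∀ x, ac B z x - x ∈ E := by
    intro z hz x
    rw [← hpp]
    intro y hy
    rw [map_sub, sub_eq_zero]
    conv_lhs => rw [← hz y hy]
    exact form_ac z y x
  have hEp : ∀ z ∈ FixS B (perp B E), ∀ e ∈ E, ac B z e = e := fun z hz e he =>
    hz e fun w hw => hE w hw e he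
  apply ac_ext
  intro x
  have h1 := hEp z hz _ (key w hw x)
  have h2 := hEp w hw _ (key z hz x)
  rw [ac_sub] at h1 h2
  rw [ac_mul, ac_mul]
  have h3 : ac B z (ac B w x) = ac B z x + (ac B w x - x) := by rw [← h1]; abel
  have h4 : ac B w (ac B z x) = ac B w x + (ac B z x - x) := by rw [← h2]; abel
  rw [h3, h4]
  abel

/-- the elements `z(e,e')` -/
def IsZZ (B : V →ₛₗ[σ] V →ₗ[F] F) (z : UU B) (e e' : V) : Prop :=
  ∀ x, ac B z x = x + B e x • e' - B e' x • e

theorem IsZZ.conj {g z : UU B} {e e' : V} (hz : IsZZ B z (ac B g e) (ac B g e')) :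
    IsZZ B (g⁻¹ * z * g) e e' := by
  intro x
  rw [ac_mul, ac_mul, hz, form_ac, form_ac, ac_sub, ac_add, ac_smul, ac_smul, ac_inv_ac, ac_inv_ac, ac_inv_ac]

/-- Witt's theorem for two injective linear maps -/
theorem witt_maps
    (hwitt : ∀ (X : Submodule F V) (φ : X →ₗ[F] V), Function.Injective φ →
      (∀ x x', B (φ x) (φ x') = B (x : V) (x' : V)) → ∃ g : UU B, ∀ x : X, ac B g x = φ x)
    {U : Type*} [AddCommGroup U] [Module F U] (j j' : U →ₗ[F] V) (hj : Function.Injective j)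
    (hj' : Function.Injective j') (hB : ∀ a b, B (j' a) (j' b) = B (j a) (j b)) :
    ∃ g : UU B, ∀ a, ac B g (j a) = j' a := by
  obtain ⟨g, hg⟩ := hwitt (LinearMap.range j) (j' ∘ₗ (LinearEquiv.ofInjective j hj).symm.toLinearMap)
    (hj'.comp (LinearEquiv.ofInjective j hj).symm.injective) (by
      intro x x'
      obtain ⟨a, rfl⟩ := (LinearEquiv.ofInjective j hj).surjective x
      obtain ⟨b, rfl⟩ := (LinearEquiv.ofInjective j hj).surjective x'
      simp only [LinearMap.comp_apply, LinearEquiv.coe_coe, LinearEquiv.symm_apply_apply]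
      exact hB a b)
  refine ⟨g, fun a => ?_⟩
  have h1 := hg (LinearEquiv.ofInjective j hj a)
  simp only [LinearMap.comp_apply, LinearEquiv.coe_coe, LinearEquiv.symm_apply_apply] at h1
  exact h1

section Rep

variable {X : Type*} [AddCommGroup X] [Module ℂ X] (ρ : Representation ℂ (UU B) X)

/-- the fixed space of the group of reflections -/
def YY (f : V) : Submodule ℂ X where
  carrier := {y | ∀ r ∈ Ref B f, ρ r y = y}
  add_mem' := fun {a b} ha hb r hr => by rw [map_add, ha r hr, hb r hr]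
  zero_mem' := fun r _ => map_zero _
  smul_mem' := fun c a ha r hr => by rw [map_smul, ha r hr]

variable {ρ}

theorem mem_YY {f : V} {y : X} : y ∈ YY ρ f ↔ ∀ r ∈ Ref B f, ρ r y = y := Iff.rfl

theorem rho_conj (g z : UU B) (y : X) : ρ z (ρ g y) = ρ g (ρ (g⁻¹ * z * g) y) := by
  rw [← Module.End.mul_apply, ← Module.End.mul_apply, ← map_mul, ← map_mul]
  congr 2
  group

theorem map_YY {f f' : V} {g : UU B} (hg : ac B g f = f') {y : X} (hy : y ∈ YY ρ f) : ρ g y ∈ YY ρ f' := by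
  intro r hr
  rw [rho_conj, hy _ (conj_Ref hg hr)]

theorem inv_fix {f f' : V} {g : UU B} (hg : ac B g f = f') : ac B g⁻¹ f' = f := by
  rw [← hg, ac_inv_ac]

theorem rho_inv_self (g : UU B) (y : X) : ρ g (ρ g⁻¹ y) = y := by
  rw [← Module.End.mul_apply, ← map_mul, mul_inv_cancel, map_one, Module.End.one_apply]

theorem rho_ne_zero {g : UU B} {y : X} (hy : y ≠ 0) : ρ g y ≠ 0 := by
  intro h0
  apply hy
  have h1 : ρ g⁻¹ (ρ g y) = y := by
    rw [← Module.End.mul_apply, ← map_mul, inv_mul_cancel, map_one, Module.End.one_apply]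
  rw [← h1, h0, map_zero]

/-- the subgroup acting trivially on a submodule -/
def Triv (ρ : Representation ℂ (UU B) X) (Y : Submodule ℂ X) : Subgroup (UU B) where
  carrier := {g | ∀ y ∈ Y, ρ g y = y}
  mul_mem' := by
    intro a b ha hb y hy
    rw [map_mul, Module.End.mul_apply, hb y hy, ha y hy]
  one_mem' := fun y _ => by rw [map_one, Module.End.one_apply]
  inv_mem' := by
    intro a ha y hy
    have h1 : ρ a⁻¹ (ρ a y) = y := by
      rw [← Module.End.mul_apply, ← map_mul, inv_mul_cancel, map_one, Module.End.one_apply]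
    rwa [ha y hy] at h1

theorem mem_Triv {Y : Submodule ℂ X} {g : UU B} : g ∈ Triv ρ Y ↔ ∀ y ∈ Y, ρ g y = y := Iff.rfl

variable [Finite F] [Finite V]

/-- **Second case**: `Z_E` acts trivially on the fixed space of the reflections. -/
theorem case_two (h : HS q σ B)
    (hwitt : ∀ (X : Submodule F V) (φ : X →ₗ[F] V), Function.Injective φ →
      (∀ x x', B (φ x) (φ x') = B (x : V) (x' : V)) → ∃ g : UU B, ∀ x : X, ac B g x = φ x)
    {E : Submodule F V} (hE : IsTS B E) (hE0 : E ≠ ⊥) {f : V} (hf : B f f = 1) (hfE : f ∈ perp B E)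
    (hgen : ∀ N : Subgroup (UU B), (∀ t : UU B, IsTv t → ac B t f = f → t ∈ N) →
      ∀ g : UU B, dt g = 1 → ac B g f = f → g ∈ N)
    (htriv : ∀ z ∈ FixS B (perp B E), ∀ y ∈ YY ρ f, ρ z y = y)
    {s : UU B} (hs : dt s = 1) (hsf : ac B s f = f) {y : X} (hy : y ∈ YY ρ f) : ρ s y = y := by
  refine hgen (Triv ρ (YY ρ f)) ?_ s hs hsf y hy
  intro t ht htf y hy
  obtain ⟨ht1, e, he0, hee, hte⟩ := ht
  -- `f` is orthogonal to `e`
  have hef : B e f = 0 := by
    by_contra hne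
    apply ht1
    apply ac_ext
    intro x
    have h1 : x - (B e x / B e f) • f ∈ perp B (Submodule.span F {e}) := by
      rw [mem_perp_span, map_sub, map_smul, smul_eq_mul, div_mul_cancel₀ _ hne, sub_self]
    have h2 := hte _ h1
    rw [ac_sub, ac_smul, htf] at h2
    have h3 := sub_left_injective h2
    rw [ac_one]
    exact h3
  have hfe : B f e = 0 := h.zero_symm hef
  obtain ⟨e₀, he₀E, he₀⟩ := Submodule.exists_mem_ne_zero_of_ne_bot hE0
  have he₀f : B e₀ f = 0 := hfE e₀ he₀E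
  have hfe₀ : B f e₀ = 0 := h.zero_symm he₀f
  have hinj : ∀ v : V, v ≠ 0 → B f v = 0 → Function.Injective
      (LinearMap.coprod (LinearMap.toSpanSingleton F V v) (LinearMap.toSpanSingleton F V f)) := by
    intro v hv hfv
    rw [← LinearMap.ker_eq_bot, LinearMap.ker_eq_bot']
    rintro ⟨a, b⟩ hab
    rw [LinearMap.coprod_apply, LinearMap.toSpanSingleton_apply, LinearMap.toSpanSingleton_apply] at hab
    have h1 := congrArg (B f) hab
    rw [map_add, map_smul, map_smul, hfv, hf, map_zero, smul_zero, zero_add, smul_eq_mul, mul_one] at h1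
    subst h1
    rw [zero_smul, add_zero] at hab
    rcases smul_eq_zero.mp hab with h2 | h2
    · have h3 : a = 0 := h2
      rw [h3]; rfl
    · exact absurd h2 hv
  obtain ⟨g, hg⟩ := witt_maps hwitt
    (LinearMap.coprod (LinearMap.toSpanSingleton F V e₀) (LinearMap.toSpanSingleton F V f))
    (LinearMap.coprod (LinearMap.toSpanSingleton F V e) (LinearMap.toSpanSingleton F V f))
    (hinj e₀ he₀ hfe₀) (hinj e he0 hfe) (by
      rintro ⟨a, b⟩ ⟨c, d⟩
      simp only [LinearMap.coprod_apply, LinearMap.toSpanSingleton_apply, map_add, LinearMap.add_apply,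
        LinearMap.map_smulₛₗ, LinearMap.smul_apply, map_smul, hee, hef, hfe, hf, hE e₀ he₀E e₀ he₀E, he₀f, hfe₀])
  have hge : ac B g e₀ = e := by
    have := hg (1, 0)
    simpa [LinearMap.coprod_apply, LinearMap.toSpanSingleton_apply] using this
  have hgf : ac B g f = f := by
    have := hg (0, 1)
    simpa [LinearMap.coprod_apply, LinearMap.toSpanSingleton_apply] using this
  have h1 : g⁻¹ * t * g ∈ FixS B (perp B E) := by
    refine conj_FixS (W' := perp B (Submodule.span F {e})) (fun x hx => ?_) hte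
    rw [mem_perp_span, ← hge, form_ac]
    exact hx e₀ he₀E
  have h2 : ρ g⁻¹ y ∈ YY ρ f := map_YY (inv_fix hgf) hy
  have h3 : ρ t (ρ g (ρ g⁻¹ y)) = ρ g (ρ g⁻¹ y) := by
    rw [rho_conj, htriv _ h1 _ h2]
  rwa [rho_inv_self] at h3

omit [Finite V] in
/-- **First case**: a nontrivial character of `Z_E` occurs on the fixed space of the reflections. -/
theorem case_one [Finite V] (h : HS q σ B)
    (hwitt : ∀ (X : Submodule F V) (φ : X →ₗ[F] V), Function.Injective φ →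
      (∀ x x', B (φ x) (φ x') = B (x : V) (x' : V)) → ∃ g : UU B, ∀ x : X, ac B g x = φ x)
    {m : ℕ} {E : Submodule F V} (hE : IsTS B E) (hEm : finrank F E = m) (hpp : perp B (perp B E) = E)
    {f : V} (hf : B f f = 1) (hfE : f ∈ perp B E) {T : Subgroup (UU B)}
    (hTf : ∀ t ∈ T, ac B t f = f) (hTE : ∀ t ∈ T, ∀ e ∈ E, ac B t e ∈ E)
    (hC : ∀ r, 1 ≤ r → r ≤ m → ∃ C : E →ₛₗ[σ] E →ₗ[F] F, C.IsSymm ∧ finrank F (LinearMap.ker C) + r = m ∧
        ∀ t (_ : t ∈ T) (hte : ∀ e ∈ E, ac B t e ∈ E),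
          (∀ e e' : E, C ⟨ac B t e, hte e e.2⟩ ⟨ac B t e', hte e' e'.2⟩ = C e e') → t ∈ Zs B ⊔ Ref B f)
    (hzz : ∀ e ∈ E, ∀ e' ∈ E, ∃ z ∈ FixS B (perp B E), ∀ x, ac B z x = x + B e x • e' - B e' x • e)
    {ψ : AddChar F ℂ} (hψ : ψ ≠ 1)
    (hchar : ∀ l : FixS B (perp B E) →* ℂˣ, ∃ C : E →ₛₗ[σ] E →ₗ[F] F, C.IsSymm ∧ (C = 0 → l = 1) ∧
        ∀ (z : FixS B (perp B E)) (e e' : E),
          (∀ x, ac B (z : UU B) x = x + B (e : V) x • (e' : V) - B (e' : V) x • (e : V)) →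
          ((l z : ℂˣ) : ℂ) = ψ (C e e'))
    (hiso : ∀ C C' : E →ₛₗ[σ] E →ₗ[F] F, C.IsSymm → C'.IsSymm →
      finrank F (LinearMap.ker C) = finrank F (LinearMap.ker C') → ∃ g : E ≃ₗ[F] E, ∀ x y, C' (g x) (g y) = C x y)
    (hZs : ∀ z ∈ Zs B, ∀ y : X, ρ z y = y)
    {z₀ : UU B} (hz₀ : z₀ ∈ FixS B (perp B E)) {y₀ : X} (hy₀ : y₀ ∈ YY ρ f) (hne : ρ z₀ y₀ ≠ y₀) :
    ∃ w : X, w ≠ 0 ∧ (∀ t ∈ T, ρ t w = w) ∧ ∀ r ∈ Ref B f, ρ r w = w := by
  -- the eigenvector
  let _ : CommGroup (FixS B (perp B E)) :=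
    { (inferInstance : Group (FixS B (perp B E))) with
      mul_comm := fun a b => Subtype.ext (FixS_comm hE hpp a.2 b.2) }
  have hzf : ∀ z ∈ FixS B (perp B E), ac B z f = f := fun z hz => hz f hfE
  obtain ⟨l, hl, y, hy, hy0, hyl⟩ := exists_eigen (A := FixS B (perp B E))
    ((ρ : UU B →* Module.End ℂ X).comp (FixS B (perp B E)).subtype) (YY ρ f)
    (fun a y hy => map_YY (hzf a a.2) hy) ⟨z₀, hz₀⟩ y₀ hy₀ hne
  replace hyl : ∀ a : FixS B (perp B E), ρ (a : UU B) y = ((l a : ℂˣ) : ℂ) • y := hyl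
  obtain ⟨C, hCs, hC0, hCl⟩ := hchar l
  have hCne : C ≠ 0 := fun h0 => hl (hC0 h0)
  have hlt : finrank F (LinearMap.ker C) < m := by
    rw [← hEm]
    have h1 : LinearMap.ker C ≠ ⊤ := fun h0 => hCne (LinearMap.ker_eq_top.mp h0)
    exact Submodule.finrank_lt h1
  obtain ⟨C', hCs', hk', hst'⟩ := hC (m - finrank F (LinearMap.ker C)) (by omega) (by omega)
  obtain ⟨g₀, hg₀⟩ := hiso C C' hCs hCs' (by omega)
  have hfe : ∀ e ∈ E, B f e = 0 := fun e he => h.zero_symm (hfE e he)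
  have hinj : ∀ k : E ≃ₗ[F] E, Function.Injective
      (LinearMap.coprod (E.subtype ∘ₗ k.toLinearMap) (LinearMap.toSpanSingleton F V f)) := by
    intro k
    rw [← LinearMap.ker_eq_bot, LinearMap.ker_eq_bot']
    rintro ⟨a, b⟩ hab
    rw [LinearMap.coprod_apply, LinearMap.toSpanSingleton_apply, LinearMap.comp_apply,
      Submodule.subtype_apply] at hab
    have h1 := congrArg (B f) hab
    rw [map_add, map_smul, hfe _ (Subtype.mem _), hf, map_zero, zero_add, smul_eq_mul, mul_one] at h1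
    subst h1
    rw [zero_smul, add_zero] at hab
    have h2 : k a = 0 := Subtype.ext hab
    rw [show a = 0 from k.map_eq_zero_iff.mp h2]
    rfl
  obtain ⟨g, hg⟩ := witt_maps hwitt
    (LinearMap.coprod (E.subtype ∘ₗ (LinearEquiv.refl F E).toLinearMap) (LinearMap.toSpanSingleton F V f))
    (LinearMap.coprod (E.subtype ∘ₗ g₀.toLinearMap) (LinearMap.toSpanSingleton F V f))
    (hinj _) (hinj _) (by
      rintro ⟨a, b⟩ ⟨c, d⟩
      simp only [LinearMap.coprod_apply, LinearMap.toSpanSingleton_apply, map_add, LinearMap.add_apply,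
        LinearMap.map_smulₛₗ, LinearMap.smul_apply, map_smul, LinearMap.comp_apply, Submodule.subtype_apply,
        LinearEquiv.coe_coe, LinearEquiv.refl_apply]
      rw [hE _ (Subtype.mem _) _ (Subtype.mem _), hE _ (Subtype.mem _) _ (Subtype.mem _),
        hfe _ (Subtype.mem _), hfe _ (Subtype.mem _), hfE _ (Subtype.mem _), hfE _ (Subtype.mem _)])
  have hge : ∀ e : E, ac B g (e : V) = g₀ e := by
    intro e
    have := hg (e, 0)
    simpa [LinearMap.coprod_apply, LinearMap.toSpanSingleton_apply] using this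
  have hgf : ac B g f = f := by
    have := hg (0, 1)
    simpa [LinearMap.coprod_apply, LinearMap.toSpanSingleton_apply] using this
  have hgE : ∀ e ∈ E, ac B g⁻¹ e ∈ E := by
    intro e he
    obtain ⟨a, ha⟩ := g₀.surjective ⟨e, he⟩
    have h1 : ac B g (a : V) = e := by rw [hge, ha]
    rw [inv_fix h1]
    exact a.2
  have hgZ : ∀ z ∈ FixS B (perp B E), g⁻¹ * z * g ∈ FixS B (perp B E) := fun z hz =>
    conj_FixS (W' := perp B E) (fun x hx => map_perp hgE hx) hz
  have hTZ : ∀ t ∈ T, ∀ z ∈ FixS B (perp B E), t⁻¹ * z * t ∈ FixS B (perp B E) := fun t ht z hz =>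
    conj_FixS (W' := perp B E) (fun x hx => map_perp (fun e he => hTE _ (T.inv_mem ht) e he) hx) hz
  -- the transported character
  let l' : FixS B (perp B E) →* ℂˣ :=
    { toFun := fun z => l ⟨g⁻¹ * z * g, hgZ z z.2⟩
      map_one' := by
        rw [← map_one l]
        congr 1
        apply Subtype.ext
        simp
      map_mul' := fun a b => by
        rw [← map_mul l]
        congr 1
        apply Subtype.ext
        show g⁻¹ * ((a : UU B) * b) * g = g⁻¹ * a * g * (g⁻¹ * b * g)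
        group }
  have hl' : ∀ z : FixS B (perp B E), l' z = l ⟨g⁻¹ * z * g, hgZ z z.2⟩ := fun _ => rfl
  have hval : ∀ (z : FixS B (perp B E)) (e e' : E), IsZZ B (z : UU B) e e' →
      ((l' z : ℂˣ) : ℂ) = ψ (C' e e') := by
    intro z e e' hz
    obtain ⟨a, ha⟩ := g₀.surjective e
    obtain ⟨a', ha'⟩ := g₀.surjective e'
    have h1 : IsZZ B (g⁻¹ * z * g) (a : V) (a' : V) := by
      apply IsZZ.conj
      rw [hge, hge, ha, ha']
      exact hz
    rw [hl', hCl ⟨g⁻¹ * z * g, hgZ z z.2⟩ a a' h1, ← hg₀, ha, ha']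
  refine exists_sum ρ (FixS B (perp B E)) T (Ref B f) hTZ (fun t ht r hr => conj_Ref (hTf t ht) hr) l'
    (y := ρ g y) (rho_ne_zero hy0) (map_YY hgf hy) ?_ ?_
  · intro z
    rw [rho_conj, hl', hyl ⟨g⁻¹ * z * g, hgZ z z.2⟩, map_smul]
  · intro t ht hfix
    have hmem : t ∈ Zs B ⊔ Ref B f := by
      refine hst' t ht (hTE t ht) ?_
      intro e e'
      by_contra hD
      apply hψ
      have key : ∀ c : F, ψ (c * (C' ⟨ac B t e, hTE t ht e e.2⟩ ⟨ac B t e', hTE t ht e' e'.2⟩ - C' e e')) = 1 := by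
        intro c
        obtain ⟨z, hz, hzx⟩ := hzz (ac B t e) (hTE t ht e e.2) (ac B t (c • e')) (hTE t ht _ (E.smul_mem c e'.2))
        have h1 := hfix ⟨z, hz⟩
        have h2 := hval ⟨z, hz⟩ ⟨ac B t e, hTE t ht e e.2⟩ ⟨ac B t (c • e'), hTE t ht _ (E.smul_mem c e'.2)⟩ hzx
        have h3 := hval ⟨t⁻¹ * z * t, hTZ t ht z hz⟩ e (c • e') (IsZZ.conj hzx)
        rw [h1, h2] at h3
        have h4 : (⟨ac B t (c • (e' : V)), hTE t ht _ (E.smul_mem c e'.2)⟩ : E) =
            c • ⟨ac B t e', hTE t ht e' e'.2⟩ := Subtype.ext (ac_smul t c e')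
        rw [h4, LinearMap.map_smul (C' _), LinearMap.map_smul (C' _), smul_eq_mul, smul_eq_mul] at h3
        rw [mul_sub, sub_eq_add_neg, AddChar.map_add_eq_mul, h3, ← AddChar.map_add_eq_mul, add_neg_cancel,
          AddChar.map_zero_eq_one]
      have hD' : C' ⟨ac B t e, hTE t ht e e.2⟩ ⟨ac B t e', hTE t ht e' e'.2⟩ - C' e e' ≠ 0 := sub_ne_zero.mpr hD
      ext x
      have h5 := key (x / (C' ⟨ac B t e, hTE t ht e e.2⟩ ⟨ac B t e', hTE t ht e' e'.2⟩ - C' e e'))
      rw [div_mul_cancel₀ _ hD'] at h5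
      rw [h5, AddChar.one_apply]
    have hle : Zs B ⊔ Ref B f ≤ Triv ρ (YY ρ f) := by
      rw [sup_le_iff]
      exact ⟨fun z hz y _ => hZs z hz y, fun r hr y hy => hy r hr⟩
    exact hle hmem _ (map_YY hgf hy)

end Rep

variable [Finite F] [Finite V]

/-- **PARTI** : with the results of the other tasks as hypotheses. -/
theorem part_one_of (h : HS q σ B) {m : ℕ} (hm : 1 ≤ m) {χ : UU B → ℂ} (hχ : IsIrrCharacter (UU B) χ)
    (hz : ∀ z ∈ Zs B, ∀ g, χ (z * g) = χ g) (hr : ¬ NoRef χ)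
    -- WITT
    (hwitt : ∀ (X : Submodule F V) (φ : X →ₗ[F] V), Function.Injective φ →
      (∀ x x', B (φ x) (φ x') = B (x : V) (x' : V)) → ∃ g : UU B, ∀ x : X, ac B g x = φ x)
    (hpp : ∀ W, perp B (perp B W) = W)
    -- GEN
    (hgen : ∀ f, B f f = 1 → ∀ N : Subgroup (UU B), (∀ t : UU B, IsTv t → ac B t f = f → t ∈ N) →
      ∀ g : UU B, dt g = 1 → ac B g f = f → g ∈ N)
    -- UE
    (hzz : ∀ E, IsTS B E → ∀ e ∈ E, ∀ e' ∈ E,
      ∃ z ∈ FixS B (perp B E), ∀ x, ac B z x = x + B e x • e' - B e' x • e)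
    -- CHARF
    (hchar : ∃ ψ : AddChar F ℂ, ψ ≠ 1 ∧ ∀ E : Submodule F V, IsTS B E →
      ∀ l : FixS B (perp B E) →* ℂˣ, ∃ C : E →ₛₗ[σ] E →ₗ[F] F, C.IsSymm ∧ (C = 0 → l = 1) ∧
        ∀ (z : FixS B (perp B E)) (e e' : E),
          (∀ x, ac B (z : UU B) x = x + B (e : V) x • (e' : V) - B (e' : V) x • (e : V)) →
          ((l z : ℂˣ) : ℂ) = ψ (C e e'))
    -- FORM
    (hiso : ∀ (E : Submodule F V) (C C' : E →ₛₗ[σ] E →ₗ[F] F), C.IsSymm → C'.IsSymm →
      finrank F (LinearMap.ker C) = finrank F (LinearMap.ker C') → ∃ g : E ≃ₗ[F] E, ∀ x y, C' (g x) (g y) = C x y)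
    -- TORUS
    (htorus : ∃ (E : Submodule F V) (f : V) (T : Subgroup (UU B)) (τ : UU B), IsTS B E ∧ finrank F E = m ∧
      B f f = 1 ∧ f ∈ perp B E ∧ τ ∈ T ∧ (∀ t ∈ T, ac B t f = f) ∧ (∀ t ∈ T, ∀ e ∈ E, ac B t e ∈ E) ∧
      (∀ s ∈ T, ∀ t ∈ T, s * t = t * s) ∧
      (∀ g : UU B, g * τ = τ * g → ∃ t ∈ T, ∃ ρ ∈ Ref B f, g = t * ρ) ∧
      Nat.card T = q ^ (2 * m) - 1 ∧ Nat.card (T ⊓ (Zs B ⊔ Ref B f) : Subgroup (UU B)) = q + 1 ∧
      ∀ r, 1 ≤ r → r ≤ m → ∃ C : E →ₛₗ[σ] E →ₗ[F] F, C.IsSymm ∧ finrank F (LinearMap.ker C) + r = m ∧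
        ∀ t (_ : t ∈ T) (hte : ∀ e ∈ E, ac B t e ∈ E),
          (∀ e e' : E, C ⟨ac B t e, hte e e.2⟩ ⟨ac B t e', hte e' e'.2⟩ = C e e') → t ∈ Zs B ⊔ Ref B f)
    -- REGU
    (hregu : ∀ f, B f f = 1 → ∃ x : UU B, ∀ g : UU B, g * x = x * g →
      ∃ z ∈ Zs B, ∃ ρ ∈ Ref B f, ∃ s : UU B, ac B s f = f ∧ dt s = 1 ∧ g = z * ρ * s) :
    ∃ x : UU B, ∑ᶠ g : Subgroup.centralizer {x}, χ (g : UU B) ≠ 0 := by
  obtain ⟨n, ρ, hirr, rfl⟩ := hχ
  have hZs : ∀ z ∈ Zs B, ∀ y : Fin n → ℂ, ρ z y = y := by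
    intro z hz' y
    have h1 : ρ.character z = ρ.character 1 := by
      have := hz z hz' 1
      rwa [mul_one] at this
    rw [Representation.char_one] at h1
    rw [(Cfsg.Agent.Characters.Values.character_eq_finrank_iff ρ z).mp h1, LinearMap.id_apply]
  obtain ⟨E, f, T, τ, hE, hEm, hf, hfE, hτT, hTf, hTE, hTc, hcent, -, -, hC⟩ := htorus
  -- a vector fixed by the reflections with centre `f`
  have hY : ∃ y ∈ YY ρ f, y ≠ 0 := by
    unfold NoRef at hr
    push Not at hr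
    obtain ⟨f₀, hf₀, hne⟩ := hr
    obtain ⟨v, hv0, hv⟩ := exists_fixed ρ (Ref B f₀) hne
    have hinj : ∀ v : V, B v v = 1 → Function.Injective (LinearMap.toSpanSingleton F V v) := by
      intro v hv
      rw [← LinearMap.ker_eq_bot, LinearMap.ker_eq_bot']
      intro a ha
      rw [LinearMap.toSpanSingleton_apply] at ha
      have h1 := congrArg (B v) ha
      rwa [map_smul, hv, map_zero, smul_eq_mul, mul_one] at h1
    obtain ⟨g, hg⟩ := witt_maps hwitt (LinearMap.toSpanSingleton F V f₀) (LinearMap.toSpanSingleton F V f)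
      (hinj f₀ hf₀) (hinj f hf) (by
        intro a b
        simp only [LinearMap.toSpanSingleton_apply, LinearMap.map_smulₛₗ, LinearMap.smul_apply, map_smul, hf, hf₀])
    have hgf : ac B g f₀ = f := by
      have := hg 1
      simpa [LinearMap.toSpanSingleton_apply] using this
    exact ⟨ρ g v, map_YY hgf hv, rho_ne_zero hv0⟩
  obtain ⟨y₁, hy₁, hy₁0⟩ := hY
  by_cases htriv : ∀ z ∈ FixS B (perp B E), ∀ y ∈ YY ρ f, ρ z y = y
  · -- second case
    have hE0 : E ≠ ⊥ := by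
      intro h0
      rw [h0, finrank_bot] at hEm
      omega
    obtain ⟨x, hx⟩ := hregu f hf
    refine ⟨x, sum_ne_zero ρ _ hy₁0 ?_⟩
    intro g hg
    obtain ⟨z, hz1, r, hr1, s, hsf, hs, rfl⟩ := hx g (by
      have := Subgroup.mem_centralizer_iff.mp hg x rfl
      exact this.symm)
    rw [map_mul, map_mul, Module.End.mul_apply, Module.End.mul_apply,
      case_two h hwitt hE hE0 hf hfE (hgen f hf) htriv hs hsf hy₁, hy₁ r hr1, hZs z hz1]
  · -- first case
    push Not at htriv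
    obtain ⟨z₀, hz₀, y₀, hy₀, hne⟩ := htriv
    obtain ⟨ψ, hψ, hψE⟩ := hchar
    obtain ⟨w, hw0, hwT, hwR⟩ := case_one h hwitt hE hEm (hpp E) hf hfE hTf hTE hC (hzz E hE) hψ (hψE E hE)
      (hiso E) hZs hz₀ hy₀ hne
    refine ⟨τ, sum_ne_zero ρ _ hw0 ?_⟩
    intro g hg
    obtain ⟨t, ht, r, hr1, rfl⟩ := hcent g (by
      have := Subgroup.mem_centralizer_iff.mp hg τ rfl
      exact this.symm)
    rw [map_mul, Module.End.mul_apply, hwR r hr1, hwT t ht]

end Cfsg.Agent.H466.CCPart
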